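import Mathlib
import Groth.Prelude
import Groth.Agent.Lib.Helper6.FiltBl.FBc
import Groth.Agent.Lib.Helper8.Depth14
import Groth.Agent.Lib.Helper8.Depth7
import Groth.Agent.Lib.Helper4.StalkClosedPt1

set_option linter.style.haveILetI false
set_option linter.unusedVariables false
set_option linter.unusedSectionVars false
set_option autoImplicit false
set_option backward.isDefEq.respectTransparency.types false
set_option synthInstance.maxHeartbeats 400000
set_option maxHeartbeats 1600000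

/-!
# A closed point with Cohen–Macaulay local ring on a scheme locally of finite type over an
Artinian ring
-/

universe u

open AlgebraicGeometry CategoryTheory LocCoh IsLocalRing

namespace Groth.Agent.Helper7.CMPt

theorem withBot_aux {a : WithBot ℕ∞} {n : ℕ} (h : a + 1 ≤ (n : WithBot ℕ∞)) (ha : 0 ≤ a) :
    ∃ m : ℕ, n = m + 1 ∧ a ≤ (m : WithBot ℕ∞) := by
  induction a with
  | bot => exact absurd ha (by simp)
  | coe y =>
    induction y using ENat.recTopCoe with
    | top =>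
      exfalso
      have h' : ((⊤ : ℕ∞) : WithBot ℕ∞) + 1 = ((⊤ : ℕ∞) : WithBot ℕ∞) := by
        rw [← WithBot.coe_one, ← WithBot.coe_add, top_add]
      rw [h'] at h
      have h'' : (⊤ : ℕ∞) ≤ (n : ℕ∞) := by exact_mod_cast h
      simp at h''
    | coe k =>
      have h' : k + 1 ≤ n := by exact_mod_cast h
      obtain ⟨m, rfl⟩ : ∃ m, n = m + 1 := ⟨n - 1, by omega⟩
      refine ⟨m, rfl, ?_⟩
      have h3 : k ≤ m := by omega
      exact_mod_cast h3

theorem cm_of_dim_zero (R : Type u) [CommRing R] [IsNoetherianRing R] [IsLocalRing R]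
    (h : ringKrullDim R ≤ 0) : IsCohenMacaulayLocalRing R := by
  rw [Groth.Agent.Lib.Helper6.FiltBl.cm_iff_dim_eq_depth]
  have h1 : ((depth R R : ℕ∞) : WithBot ℕ∞) ≤ ringKrullDim R := by
    have h0 := Groth.Agent.Helper8.Depth.depth_le_supportDim (A := R) (M := R)
    rwa [Module.supportDim_self_eq_ringKrullDim] at h0
  refine le_antisymm (h.trans ?_) h1
  simp

theorem quot_facts (B : Type u) [CommRing B] (𝔪 : Ideal B) (hm : 𝔪.IsMaximal) (t : B) (ht : t ∈ 𝔪)
    (hreg : IsSMulRegular B t) :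
    Nontrivial (B ⧸ Ideal.span {t}) ∧
      ringKrullDim (B ⧸ Ideal.span {t}) + 1 ≤ ringKrullDim B := by
  constructor
  · rw [Ideal.Quotient.nontrivial_iff]
    intro htop
    have h1 : Ideal.span {t} ≤ 𝔪 := (Ideal.span_singleton_le_iff_mem _).mpr ht
    rw [htop] at h1
    exact hm.ne_top (top_le_iff.mp h1)
  · apply ringKrullDim_quotient_succ_le_of_nonZeroDivisor
    rw [mem_nonZeroDivisors_iff]
    have h0 : ∀ x : B, t * x = 0 → x = 0 := fun x hx =>
      hreg.right_eq_zero_of_smul (by simpa [smul_eq_mul] using hx)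
    exact ⟨h0, fun x hx => h0 x (by rw [mul_comm]; exact hx)⟩

theorem case2 (B : Type u) [CommRing B] [IsNoetherianRing B] [IsJacobsonRing B] [Nontrivial B]
    (hC : ∀ (𝔪 : Ideal B), 𝔪.IsMaximal → ∀ t ∈ 𝔪, ¬ IsSMulRegular B t) :
    ∃ 𝔪 : MaximalSpectrum B, IsCohenMacaulayLocalRing (Localization.AtPrime 𝔪.asIdeal) := by
  classical
  have hass : ∀ 𝔪 : Ideal B, 𝔪.IsMaximal → 𝔪 ∈ associatedPrimes B B := by
    intro 𝔪 hm
    obtain ⟨p, hp, hle⟩ :=
      Groth.Agent.Helper8.Depth.exists_le_associatedPrime_of_forall_not_isSMulRegular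
        (M := B) 𝔪 (hC 𝔪 hm)
    have hpp : p.IsPrime := hp.isPrime
    have h1 : 𝔪 = p := hm.eq_of_le hpp.ne_top hle
    rw [h1]; exact hp
  have hfin : (associatedPrimes B B).Finite := associatedPrimes.finite B B
  have hprime : ∀ P : Ideal B, P.IsPrime → P.IsMaximal := by
    intro P hP
    have hj : P.jacobson = P := IsJacobsonRing.out ‹IsJacobsonRing B› hP.isRadical
    have hSfin : ({J : Ideal B | P ≤ J ∧ J.IsMaximal} : Set (Ideal B)).Finite :=
      hfin.subset (fun J hJ => hass J hJ.2)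
    have hinf : hSfin.toFinset.inf id ≤ P := by
      rw [Finset.inf_id_eq_sInf, Set.Finite.coe_toFinset]
      exact hj.le
    obtain ⟨J, hJ, hJP⟩ := (Ideal.IsPrime.inf_le' hP).mp hinf
    rw [Set.Finite.mem_toFinset] at hJ
    have h1 : P = J := le_antisymm hJ.1 hJP
    rw [h1]; exact hJ.2
  haveI hK : Ring.KrullDimLE 0 B := Ring.krullDimLE_zero_iff.mpr hprime
  have hdim : ringKrullDim B ≤ 0 := by
    have h1 := Ring.krullDimLE_iff.mp hK
    simpa using h1
  obtain ⟨𝔪, hm⟩ := Ideal.exists_maximal B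
  haveI := hm
  refine ⟨⟨𝔪, hm⟩, ?_⟩
  have hd : ringKrullDim (Localization.AtPrime 𝔪) ≤ 0 := by
    rw [IsLocalization.AtPrime.ringKrullDim_eq_height 𝔪 (Localization.AtPrime 𝔪)]
    exact (Ideal.height_le_ringKrullDim_of_ne_top hm.ne_top).trans hdim
  exact cm_of_dim_zero _ hd

theorem case1 (B : Type u) [CommRing B] [IsNoetherianRing B] (t : B) (hreg : IsSMulRegular B t)
    (𝔪' : MaximalSpectrum (B ⧸ Ideal.span {t}))
    (h : IsCohenMacaulayLocalRing (Localization.AtPrime 𝔪'.asIdeal)) :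
    ∃ 𝔪 : MaximalSpectrum B, IsCohenMacaulayLocalRing (Localization.AtPrime 𝔪.asIdeal) := by
  have hq : (𝔪'.asIdeal.comap (Ideal.Quotient.mk (Ideal.span {t}))).IsMaximal :=
    Ideal.comap_isMaximal_of_surjective _ Ideal.Quotient.mk_surjective
  refine ⟨⟨𝔪'.asIdeal.comap (Ideal.Quotient.mk (Ideal.span {t})), hq⟩, ?_⟩
  have hmap : (𝔪'.asIdeal.comap (Ideal.Quotient.mk (Ideal.span {t}))).map
      (Ideal.Quotient.mk (Ideal.span {t})) = 𝔪'.asIdeal :=
    Ideal.map_comap_of_surjective _ Ideal.Quotient.mk_surjective _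
  have htq : t ∈ 𝔪'.asIdeal.comap (Ideal.Quotient.mk (Ideal.span {t})) := by
    rw [Ideal.mem_comap, Ideal.Quotient.eq_zero_iff_mem.mpr (Ideal.mem_span_singleton_self t)]
    exact zero_mem _
  have key : ∀ (Q : Ideal (B ⧸ Ideal.span {t})) [Q.IsPrime], Q = 𝔪'.asIdeal →
      IsCohenMacaulayLocalRing (Localization.AtPrime 𝔪'.asIdeal) →
      IsCohenMacaulayLocalRing (Localization.AtPrime Q) := by
    intro Q _ hQ
    subst hQ
    exact id
  haveI hQ : ((𝔪'.asIdeal.comap (Ideal.Quotient.mk (Ideal.span {t}))).map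
      (Ideal.Quotient.mk (Ideal.span {t}))).IsPrime := by rw [hmap]; infer_instance
  exact (Groth.Agent.Lib.Helper6.FiltBl.cm_atPrime_iff_quotient B t hreg _ htq).mpr
    (key _ hmap h)

theorem exists_cm_max (n : ℕ) : ∀ (B : Type u) [CommRing B] [IsNoetherianRing B]
    [IsJacobsonRing B] [Nontrivial B], ringKrullDim B ≤ (n : WithBot ℕ∞) →
    ∃ 𝔪 : MaximalSpectrum B, IsCohenMacaulayLocalRing (Localization.AtPrime 𝔪.asIdeal) := by
  induction n with
  | zero =>
    intro B _ _ _ _ hdim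
    by_cases hC : ∀ (𝔪 : Ideal B), 𝔪.IsMaximal → ∀ t ∈ 𝔪, ¬ IsSMulRegular B t
    · exact case2 B hC
    · exfalso
      push Not at hC
      obtain ⟨𝔪, hm, t, ht, hreg⟩ := hC
      obtain ⟨hnt, hd⟩ := quot_facts B 𝔪 hm t ht hreg
      obtain ⟨m, hm', -⟩ := withBot_aux (hd.trans hdim) ringKrullDim_nonneg_of_nontrivial
      omega
  | succ n ih =>
    intro B _ _ _ _ hdim
    by_cases hC : ∀ (𝔪 : Ideal B), 𝔪.IsMaximal → ∀ t ∈ 𝔪, ¬ IsSMulRegular B t
    · exact case2 B hC
    · push Not at hC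
      obtain ⟨𝔪, hm, t, ht, hreg⟩ := hC
      obtain ⟨hnt, hd⟩ := quot_facts B 𝔪 hm t ht hreg
      obtain ⟨m, hm', hle⟩ := withBot_aux (hd.trans hdim) ringKrullDim_nonneg_of_nontrivial
      have hmn : m = n := by omega
      subst hmn
      obtain ⟨𝔪', h'⟩ := ih (B ⧸ Ideal.span {t}) hle
      exact case1 B t hreg 𝔪' h'

theorem exists_cm_max_of_finiteType (A : Type u) [CommRing A] [IsArtinianRing A] (B : Type u)
    [CommRing B] [Algebra A B] [Algebra.FiniteType A B] [Nontrivial B] :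
    ∃ 𝔪 : MaximalSpectrum B, IsCohenMacaulayLocalRing (Localization.AtPrime 𝔪.asIdeal) := by
  haveI : IsNoetherianRing A := inferInstance
  haveI : IsNoetherianRing B := Algebra.FiniteType.isNoetherianRing A B
  haveI : IsJacobsonRing B := isJacobsonRing_of_finiteType (A := A)
  obtain ⟨n, g, hg⟩ := Algebra.FiniteType.iff_quotient_mvPolynomial''.mp ‹Algebra.FiniteType A B›
  have h1 : ringKrullDim B ≤ ringKrullDim (MvPolynomial (Fin n) A) :=
    ringKrullDim_le_of_surjective (g : MvPolynomial (Fin n) A →+* B) hg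
  have h2 : ringKrullDim (MvPolynomial (Fin n) A) = ringKrullDim A + Nat.card (Fin n) :=
    MvPolynomial.ringKrullDim_of_isNoetherianRing
  have h3 : ringKrullDim A ≤ 0 := by
    have hK : Ring.KrullDimLE 0 A := Ring.krullDimLE_zero_iff.mpr
      (fun I hI => by haveI := hI; exact IsArtinianRing.isMaximal_of_isPrime I)
    have h4 := Ring.krullDimLE_iff.mp hK
    simpa using h4
  refine exists_cm_max n B ?_
  simp only [Nat.card_eq_fintype_card, Fintype.card_fin] at h2
  rw [h2] at h1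
  calc ringKrullDim B ≤ ringKrullDim A + n := h1
    _ ≤ 0 + n := add_le_add h3 le_rfl
    _ = n := zero_add _

theorem main (A : Type u) [CommRing A] [IsArtinianRing A] (X : Scheme.{u})
    (f : X ⟶ Spec (CommRingCat.of A)) [LocallyOfFiniteType f] [Nonempty X] :
    ∃ x : X, IsClosed ({x} : Set X) ∧ LocCoh.IsCohenMacaulayLocalRing (X.presheaf.stalk x) := by
  obtain ⟨x₀⟩ := ‹Nonempty X›
  obtain ⟨_, ⟨V, hV, rfl⟩, hxV, -⟩ :=
    X.isBasis_affineOpens.exists_subset_of_mem_open (Set.mem_univ x₀) isOpen_univ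
  have hV' : IsAffineOpen V := hV
  have hVU : V ≤ f ⁻¹ᵁ ⊤ := le_top
  have hft : (f.appLE ⊤ V hVU).hom.FiniteType :=
    f.finiteType_appLE (isAffineOpen_top _) hV' hVU
  have hsurj : Function.Surjective (Scheme.ΓSpecIso (CommRingCat.of A)).inv.hom :=
    (ConcreteCategory.bijective_of_isIso (Scheme.ΓSpecIso (CommRingCat.of A)).inv).surjective
  have hφ : ((f.appLE ⊤ V hVU).hom.comp (Scheme.ΓSpecIso (CommRingCat.of A)).inv.hom).FiniteType :=
    hft.comp (RingHom.FiniteType.of_surjective _ hsurj)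
  algebraize [(f.appLE ⊤ V hVU).hom.comp (Scheme.ΓSpecIso (CommRingCat.of A)).inv.hom]
  haveI : Nonempty V := ⟨⟨x₀, hxV⟩⟩
  haveI : Nontrivial Γ(X, V) := Scheme.component_nontrivial X V
  obtain ⟨𝔪, h𝔪⟩ := exists_cm_max_of_finiteType A Γ(X, V)
  set y : PrimeSpectrum Γ(X, V) := ⟨𝔪.asIdeal, inferInstance⟩ with hydef
  have hy : hV'.fromSpec y ∈ V := by
    have h1 : hV'.fromSpec y ∈ hV'.fromSpec.opensRange := ⟨y, rfl⟩
    rwa [hV'.opensRange_fromSpec] at h1
  refine ⟨hV'.fromSpec y, ?_, ?_⟩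
  · haveI : JacobsonSpace X := LocallyOfFiniteType.jacobsonSpace f
    have hcl : IsClosed ({y} : Set (PrimeSpectrum Γ(X, V))) :=
      (PrimeSpectrum.isClosed_singleton_iff_isMaximal y).mpr 𝔪.isMaximal
    have h2 := hV'.fromSpec.isOpenEmbedding.preimage_closedPoints
    have h3 : y ∈ hV'.fromSpec ⁻¹' closedPoints X := by
      rw [h2]; exact hcl
    exact h3
  · letI : Algebra Γ(X, V) (X.presheaf.stalk (hV'.fromSpec y)) :=
      TopCat.Presheaf.algebra_section_stalk X.presheaf ⟨hV'.fromSpec y, hy⟩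
    haveI : IsLocalization.AtPrime (X.presheaf.stalk (hV'.fromSpec y)) y.asIdeal :=
      hV'.isLocalization_stalk' y hy
    exact Groth.Agent.Lib.Helper4.StalkClosedPt1.cm_of_ringEquiv _ _
      (IsLocalization.algEquiv y.asIdeal.primeCompl (Localization.AtPrime y.asIdeal)
        (X.presheaf.stalk (hV'.fromSpec y))).toRingEquiv h𝔪

end Groth.Agent.Helper7.CMPt
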